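import Groth.Agent.Lib.FibPd.EquidimConstr
import Groth.Agent.Lib.FibPd.GeomOpen
import Groth.Agent.Lib.S2Equidim1.Basic

/-!
# A neighbourhood with `(S_k)` fibres, of pure dimension, with a codimension bound
-/

set_option autoImplicit false
set_option linter.style.haveILetI false
universe u

open TensorProduct Function IsLocalRing CategoryTheory AlgebraicGeometry Topology TopologicalSpace GrothLib.FibPd

namespace GrothLib.SkNhd1

section Ring

variable {A : Type u} [CommRing A] {n : ℕ} {M : Type u} [AddCommGroup M] [Module (Pol A n) M]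
  [Module.Finite (Pol A n) M]

/-- The fibre dimension is attained at a generisation which is generic in the support. -/
theorem exists_gen {Q : PrimeSpectrum (Pol A n)} (hQ : Q ∈ Module.support (Pol A n) M) :
    ∃ (y : PrimeSpectrum (Pol A n)) (s t : ℕ), y.asIdeal ≤ Q.asIdeal ∧
      y.asIdeal.comap (algebraMap A (Pol A n)) = Q.asIdeal.comap (algebraMap A (Pol A n)) ∧
      fibSdim M y = 0 ∧ fibSdim M Q = s ∧ ptDimFib Q = t ∧ ptDimFib y = (s + t : ℕ) := by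
  have hsupp := (Module.support_eq_zeroLocus : Module.support (Pol A n) M = _)
  have hgen : ∀ (τ : ℕ) (P : PrimeSpectrum (Pol A n)), GenIn (Module.support (Pol A n) M) τ P ↔
      (τ : WithBot ℕ∞) ≤ fibDimIn (PrimeSpectrum.comap (algebraMap A (Pol A n))) (Module.support (Pol A n) M) P := by
    intro τ P
    rw [hsupp]
    exact genIn_zeroLocus_iff _ τ P
  obtain ⟨d, e, t, s, -, ht, -, -, hs, hfd, -⟩ := exists_numbers Q M hQ
  obtain ⟨y, hy, hyp, hys, hyt⟩ := (hgen (s + t) Q).2 hfd.ge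
  obtain ⟨d', e', t', s', -, ht', -, -, hs', hfd', -⟩ := exists_numbers y M hys
  obtain ⟨y₂, hy₂, hy₂p, hy₂s, hy₂t⟩ := (hgen (s' + t') y).2 hfd'.ge
  obtain ⟨t₂, ht₂n, ht₂⟩ := exists_ptDimFib_eq y₂
  rw [ht'] at hyt
  rw [ht₂] at hy₂t
  have h1 : s + t ≤ t' := by exact_mod_cast hyt
  have h2 : s' + t' ≤ t₂ := by exact_mod_cast hy₂t
  have h3 := (hgen t₂ Q).1 ⟨y₂, hy₂.trans hy, hy₂p.trans hyp, hy₂s, ht₂.ge⟩
  rw [hfd] at h3
  have h4 : t₂ ≤ s + t := by exact_mod_cast h3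
  refine ⟨y, s, t, hy, hyp, ?_, hs, ht, ?_⟩
  · rw [fibSdim, hs', show s' = 0 by omega]; rfl
  · rw [ht', show t' = s + t by omega]

end Ring

variable {Y T : Scheme.{u}}

set_option backward.isDefEq.respectTransparency false in
set_option maxHeartbeats 1000000 in
theorem exists_nhd (f : Y ⟶ T) [Flat f] [LocallyOfFinitePresentation f] (k : ℕ) (hk : 2 ≤ k) (y : Y)
    (hy : LocCoh.HasSk k ((f.fiber (f y)).presheaf.stalk (f.asFiber y)) ((f.fiber (f y)).presheaf.stalk (f.asFiber y)))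
    (Yo : Y.Opens) (c : WithBot ℕ∞)
    (hc : ∀ z : Y, f z = f y → z ∉ Yo → z ⤳ y →
      c ≤ ringKrullDim ((f.fiber (f z)).presheaf.stalk (f.asFiber z))) :
    ∃ (U : Y.Opens) (d : ℕ), y ∈ U ∧
      (∀ z : Y, z ∈ U → LocCoh.HasSk k ((f.fiber (f z)).presheaf.stalk (f.asFiber z)) ((f.fiber (f z)).presheaf.stalk (f.asFiber z))) ∧
      (∀ z : Y, z ∈ U → FlatMor.fibreDimAt f z = (d : WithBot ℕ∞)) ∧
      ∀ z : Y, z ∈ U → z ∉ Yo → c ≤ ringKrullDim ((f.fiber (f z)).presheaf.stalk (f.asFiber z)) := by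
  classical
  obtain ⟨V, W, hV, hW, e, hyW⟩ := exists_chart f y
  obtain ⟨n, π, hπ, hπfg, hπA⟩ := exists_presentation f hV hW e
  letI := polModule π Γ(Y, W)
  letI : Module Γ(T, V) Γ(Y, W) := Module.compHom _ (f.appLE V W e).hom
  haveI : IsScalarTower Γ(T, V) (Pol Γ(T, V) n) Γ(Y, W) := IsScalarTower.of_algebraMap_smul fun a m => by
    show π (algebraMap Γ(T, V) (Pol Γ(T, V) n) a) * m = (f.appLE V W e).hom a * m
    rw [MvPolynomial.algebraMap_eq, ← hπA]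
    rfl
  haveI : Module.Flat Γ(T, V) Γ(Y, W) := flat_appLE_of_stalkMap f hV hW e fun w _ => Flat.stalkMap f w
  haveI : Module.FinitePresentation (Pol Γ(T, V) n) Γ(Y, W) := by
    letI : Algebra (Pol Γ(T, V) n) Γ(Y, W) := π.toAlgebra
    exact Module.finitePresentation_of_surjective (Algebra.linearMap (Pol Γ(T, V) n) Γ(Y, W)) hπ hπfg
  haveI : ∀ t, LocallyOfFiniteType (f.fiberToSpecResidueField t) := fun t =>
    MorphismProperty.pullback_snd f _ inferInstance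
  have hz : ∀ x : W, f.fiberι (f x.1) (f.asFiber x.1) ∈ W := fun x => by rw [f.fiberι_asFiber]; exact x.2
  have hdim : ∀ x : W, ringKrullDim ((f.fiber (f x.1)).presheaf.stalk (f.asFiber x.1)) =
      fibSdim Γ(Y, W) (chartPt hW π x) := fun x => by
    have h := (fibre_ring_data f hV hW e π hπ hπA _ _ (hz x)).2
    rwa [chartPt_asFiber f hW π x (hz x)] at h
  have hSk : ∀ x : W, LocCoh.HasSk k ((f.fiber (f x.1)).presheaf.stalk (f.asFiber x.1))
      ((f.fiber (f x.1)).presheaf.stalk (f.asFiber x.1)) ↔ SkGood Γ(Y, W) k (chartPt hW π x) := fun x => by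
    have h := fibre_ring_hasSk f hV hW e π hπ hπA _ _ (hz x) k
    rwa [chartPt_asFiber f hW π x (hz x)] at h
  have hfd : ∀ (x : W) (s t : ℕ), fibSdim Γ(Y, W) (chartPt hW π x) = s → ptDimFib (chartPt hW π x) = t →
      FlatMor.fibreDimAt f x.1 = ((s + t : ℕ) : WithBot ℕ∞) := by
    intro x s t hs ht
    have h1 := dim_closure_eq_ptDimFib f hV hW e π hπ hπA _ _ (hz x)
    change _ = ptDimFib (chartPt hW π _) at h1
    rw [chartPt_asFiber f hW π x (hz x), ht] at h1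
    rw [FlatMor.fibreDimAt, GrothLib.AffDom.localDim_eq (K := T.residueField (f x.1)) (f.fiberToSpecResidueField (f x.1))
      (f.asFiber x.1), hdim x, hs, GrothLib.AffDom.ptDim, h1, Nat.cast_add, add_comm]
  have hsup : ∀ x : W, chartPt hW π x ∈ Module.support (Pol Γ(T, V) n) Γ(Y, W) := fun x => by
    by_contra hns
    haveI : Subsingleton (EGA4.FibLocRing Γ(T, V) (Pol Γ(T, V) n) (chartPt hW π x).asIdeal ⊗[Pol Γ(T, V) n] Γ(Y, W)) :=
      not_nontrivial_iff_subsingleton.mp fun h => hns ((nontrivial_fibStalk_iff _ Γ(Y, W)).mp h)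
    have h := hdim x
    rw [fibSdim, Module.supportDim_eq_bot_of_subsingleton] at h
    exact absurd (h ▸ ringKrullDim_nonneg_of_nontrivial : (0 : WithBot ℕ∞) ≤ ⊥) (by simp)
  set Q₀ := chartPt hW π ⟨y, hyW⟩ with hQ₀
  have hQSk : SkGood Γ(Y, W) k Q₀ := (hSk ⟨y, hyW⟩).1 hy
  have hQeq : EquidimGood Γ(Y, W) Q₀ := by
    haveI : IsLocallyNoetherian (f.fiber (f y)) :=
      LocallyOfFiniteType.isLocallyNoetherian (f.fiberToSpecResidueField (f y))
    have h := fibre_ring_isEquidim f hV hW e π hπ hπA _ _ (hz ⟨y, hyW⟩)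
    rw [chartPt_asFiber f hW π ⟨y, hyW⟩ (hz ⟨y, hyW⟩)] at h
    exact h.1 ((isEquidimModule_self_iff _).2 (GrothLib.S2Equidim1.isEquidim_stalk (k := T.residueField (f y))
      (f.fiberToSpecResidueField (f y)) (f.asFiber y) fun p _ => le_trans (min_le_min_right _ (by exact_mod_cast hk)) (hy p)))
  obtain ⟨y₀, s₀, t₀, hy₀, hy₀p, hy₀0, hs₀, ht₀, hy₀t⟩ := exists_gen (hsup ⟨y, hyW⟩)
  set d := s₀ + t₀ with hd
  let O₁ : Set (PrimeSpectrum (Pol Γ(T, V) n)) := {Q | SkGood Γ(Y, W) k Q ∧ EquidimGood Γ(Y, W) Q} ∩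
    ⋂ τ ∈ Set.Iic n \ {d}, {Q | ¬ GenIn (WSet Γ(Y, W) (n - τ)) τ Q}
  have hO₁ : IsOpen O₁ := (isOpen_skGood_and_equidimGood (by omega)).inter
    (((Set.finite_Iic n).subset Set.sdiff_subset).isOpen_biInter fun τ _ => isOpen_not_genIn (isClosed_wSet _) τ)
  have hQ₁ : Q₀ ∈ O₁ := by
    refine ⟨⟨hQSk, hQeq⟩, Set.mem_iInter₂.2 fun τ hτ hgen => ?_⟩
    obtain ⟨y', hy', hy'p, hy'0, hy't⟩ := (genIn_wSet_iff (by omega) hQSk τ).1 hgen
    have := hQeq y₀ y' hy₀ hy₀p hy₀0 hy' hy'p hy'0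
    rw [hy₀t, hy't] at this
    exact hτ.2 (natCast_withBot_inj this).symm
  have hsum : ∀ (x : W), chartPt hW π x ∈ O₁ → ∀ s t : ℕ, fibSdim Γ(Y, W) (chartPt hW π x) = s →
      ptDimFib (chartPt hW π x) = t → s + t = d := by
    intro x hx s t hs ht
    obtain ⟨y', s', t', hy', hy'p, hy'0, hs', ht', hy't⟩ := exists_gen (hsup x)
    obtain rfl : s' = s := natCast_withBot_inj (hs'.symm.trans hs)
    obtain rfl : t' = t := natCast_withBot_inj (ht'.symm.trans ht)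
    by_contra hne
    obtain ⟨u, hu, hu'⟩ := exists_ptDimFib_eq y'
    have hun : s' + t' ≤ n := by rw [hy't] at hu'; rw [natCast_withBot_inj hu']; exact hu
    exact Set.mem_iInter₂.1 hx.2 (s' + t') ⟨hun, hne⟩
      ((genIn_wSet_iff (by omega) hx.1.1 (s' + t')).2 ⟨y', hy', hy'p, hy'0, hy't⟩)
  let S : Set (PrimeSpectrum (Pol Γ(T, V) n)) := chartPt hW π '' (Subtype.val ⁻¹' (Yo : Set Y)ᶜ)
  have hS : IsClosed S :=
    (isClosedEmbedding_chartPt hW π hπ).isClosedMap _ (Yo.2.isClosed_compl.preimage continuous_subtype_val)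
  let B : Set ℕ := {τ | τ ≤ n ∧ ((d - τ : ℕ) : WithBot ℕ∞) < c}
  let O : Set (PrimeSpectrum (Pol Γ(T, V) n)) := O₁ ∩ ⋂ τ ∈ B, {Q | ¬ GenIn S τ Q}
  have hO : IsOpen O :=
    hO₁.inter (((Set.finite_Iic n).subset fun τ hτ => hτ.1).isOpen_biInter fun τ _ => isOpen_not_genIn hS τ)
  have hQO : Q₀ ∈ O := by
    refine ⟨hQ₁, Set.mem_iInter₂.2 fun τ hτ hgen => ?_⟩
    obtain ⟨q, hq, hqp, hqS, hqt⟩ := hgen
    obtain ⟨w, hwo, rfl⟩ := hqS
    have hker : RingHom.ker π ≤ (chartPt hW π w).asIdeal := fun r hr => by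
      show π r ∈ (hW.primeIdealOf w).asIdeal
      rw [RingHom.mem_ker.1 hr]
      exact zero_mem _
    obtain ⟨z, hzW, hzy, hzw⟩ := gen_exists f hV hW e π hπ hπA ⟨y, hyW⟩ _ hq hqp hker
    have hwz : w = ⟨_, hzW⟩ := (isClosedEmbedding_chartPt hW π hπ).injective hzw.symm
    have hw1 : w.1 = f.fiberι (f y) z := congrArg Subtype.val hwz
    have hfw : f w.1 = f y := by rw [hw1]; exact GrothLib.FibreFlat.fiberι_comp_apply f _ z
    have hwy : w.1 ⤳ y := by
      rw [hw1]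
      have := hzy.map (f.fiberι (f y)).continuous
      rwa [f.fiberι_asFiber] at this
    have hw₁ : chartPt hW π w ∈ O₁ := by
      refine Specializes.mem_open ?_ hO₁ hQ₁
      exact (PrimeSpectrum.le_iff_specializes _ _).1 ((PrimeSpectrum.asIdeal_le_asIdeal _ _).1 hq)
    obtain ⟨_, s, t, -, -, -, hs, ht, -⟩ := exists_gen (hsup w)
    have hst := hsum w hw₁ s t hs ht
    rw [ht] at hqt
    have hτt : τ ≤ t := by exact_mod_cast hqt
    have h := hc w.1 hfw hwo hwy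
    rw [hdim w, hs] at h
    exact absurd (h.trans (by exact_mod_cast (show s ≤ d - τ by omega))) (not_le.2 hτ.2)
  refine ⟨⟨Subtype.val '' (chartPt hW π ⁻¹' O),
    W.2.isOpenEmbedding_subtypeVal.isOpenMap _ (hO.preimage (continuous_chartPt hW π))⟩, d,
    ⟨⟨y, hyW⟩, hQO, rfl⟩, ?_, ?_, ?_⟩
  · rintro _ ⟨x, hx, rfl⟩
    exact (hSk x).2 hx.1.1.1
  · rintro _ ⟨x, hx, rfl⟩
    obtain ⟨_, s, t, -, -, -, hs, ht, -⟩ := exists_gen (hsup x)
    rw [hfd x s t hs ht, hsum x hx.1 s t hs ht]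
  · rintro _ ⟨x, hx, rfl⟩ hxo
    obtain ⟨_, s, t, -, -, -, hs, ht, -⟩ := exists_gen (hsup x)
    have hst := hsum x hx.1 s t hs ht
    rw [hdim x, hs]
    by_contra hlt
    obtain ⟨u, hu, hu'⟩ := exists_ptDimFib_eq (chartPt hW π x)
    obtain rfl : u = t := natCast_withBot_inj (hu'.symm.trans ht)
    refine Set.mem_iInter₂.1 hx.2 u ⟨hu, ?_⟩ ⟨chartPt hW π x, le_rfl, rfl, ⟨x, hxo, rfl⟩, ht.ge⟩
    rw [show d - u = s by omega]
    exact not_le.1 hlt

end GrothLib.SkNhd1
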